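import Groth.Agent.Purity.CompFF
import Groth.Agent.SchDescent.Effective
import Groth.Agent.FpqcDescent.Props
import Mathlib.AlgebraicGeometry.Sites.Fpqc
import Mathlib.AlgebraicGeometry.Morphisms.WeaklyEtale

/-!
# Descent of extensions of finite étale covers along weakly étale faithfully flat morphisms

`j : U ⟶ X` is such that clopen subsets extend uniquely from the preimage of `U` to any scheme
weakly étale over `X` (`CloExt j`), `f : X₁ ⟶ X` is weakly étale, surjective and quasi-compact.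
If the pullback of a cover `E ⟶ U` to `U ×_X X₁` extends to a finite étale cover `F ⟶ X₁`,
then `E` extends to `X`.  The proof follows `Groth.Agent.PurePair.Descent`.
-/

set_option autoImplicit false
set_option backward.isDefEq.respectTransparency false

universe u

open CategoryTheory CategoryTheory.Limits AlgebraicGeometry TopologicalSpace

namespace Groth.Agent.ShSplit

/-- Clopen subsets extend uniquely along base changes of `j` to schemes weakly étale over the target. -/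
def CloExt {U X : Scheme.{u}} (j : U ⟶ X) : Prop :=
  ∀ ⦃Z : Scheme.{u}⦄ (h : Z ⟶ X) [WeaklyEtale h] (C : Set ↥(pullback h j)), IsClopen C →
    ∃! W : Set Z, IsClopen W ∧ pullback.fst h j ⁻¹' W = C

theorem existsUnique_comp_cloExt {U X Q S F : Scheme.{u}} {j : U ⟶ X} (hj : CloExt j) (h : Q ⟶ X)
    [WeaklyEtale h] (q : Q ⟶ S) (π : F ⟶ S) [IsFinite π] [Etale π] (φ : pullback h j ⟶ F)
    (hφ : φ ≫ π = pullback.fst h j ≫ q) :
    ∃! ψ : Q ⟶ F, ψ ≫ π = q ∧ pullback.fst h j ≫ ψ = φ := by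
  set i := pullback.fst h j with hi
  haveI : IsFinite (pullback.fst q π) := MorphismProperty.pullback_fst (P := @IsFinite) _ _ ‹_›
  haveI : Etale (pullback.fst q π) := MorphismProperty.pullback_fst (P := @Etale) _ _ ‹_›
  have hclo : ∀ (Z : Scheme.{u}) (ρ : Z ⟶ Q), IsFinite ρ → Etale ρ → ∀ C : Set ↥(pullback ρ i),
      IsClopen C → ∃! W : Set Z, IsClopen W ∧ pullback.fst ρ i ⁻¹' W = C := by
    intro Z ρ _ _ C hC
    let e := pullbackRightPullbackFstIso h j ρ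
    obtain ⟨W, ⟨hW, hWC⟩, hu⟩ := hj (ρ ≫ h) (e.inv ⁻¹' C) (hC.preimage e.inv.continuous)
    have hfst : ∀ x, pullback.fst (ρ ≫ h) j (e.hom x) = pullback.fst ρ i x := fun x => by
      rw [← Scheme.Hom.comp_apply, pullbackRightPullbackFstIso_hom_fst]
    have hinv : ∀ x, e.inv (e.hom x) = x := fun x => by
      rw [← Scheme.Hom.comp_apply, e.hom_inv_id]; rfl
    refine ⟨W, ⟨hW, ?_⟩, fun W' ⟨hW', hWC'⟩ => hu W' ⟨hW', ?_⟩⟩
    · ext x
      have := Set.ext_iff.1 hWC (e.hom x)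
      simpa [hfst, hinv] using this
    · ext y
      have h1 : e.hom (e.inv y) = y := by rw [← Scheme.Hom.comp_apply, e.inv_hom_id]; rfl
      have := Set.ext_iff.1 hWC' (e.inv y)
      simpa [← hfst, h1] using this
  have hc : pullback.fst (𝟙 Q) i = pullback.snd (𝟙 Q) i ≫ i := by
    simpa using pullback.condition (f := 𝟙 Q) (g := i)
  let φ' : pullback (𝟙 Q) i ⟶ pullback q π := pullback.lift (pullback.fst _ _) (pullback.snd _ _ ≫ φ)
    (by rw [Category.assoc, hφ, hc, Category.assoc])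
  obtain ⟨ψ', ⟨hψ', hψφ'⟩, hu⟩ := Purity.existsUnique_of_clopen i (𝟙 Q) (pullback.fst q π) hclo φ'
    (by simp [φ'])
  let s : pullback h j ⟶ pullback (𝟙 Q) i := pullback.lift i (𝟙 _) (by simp)
  refine ⟨ψ' ≫ pullback.snd q π, ⟨?_, ?_⟩, fun ψ ⟨h1, h2⟩ => ?_⟩
  · rw [Category.assoc, ← pullback.condition, ← Category.assoc, hψ', Category.id_comp]
  · have := congrArg (fun g => s ≫ g ≫ pullback.snd q π) hψφ'
    simp [φ', s] at this
    exact this.trans (Category.id_comp φ)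
  · have := hu (pullback.lift (𝟙 Q) ψ (by rw [Category.id_comp, h1])) ⟨pullback.lift_fst _ _ _, by
      refine pullback.hom_ext (by simp [φ']) ?_
      rw [Category.assoc, pullback.lift_snd, pullback.lift_snd, hc, Category.assoc, h2]⟩
    rw [← this, pullback.lift_snd]

variable {X X₁ U E F P₀ : Scheme.{u}} {f : X₁ ⟶ X} {j : U ⟶ X} {e : E ⟶ U} {π : F ⟶ X₁}
  {i : P₀ ⟶ F} {u : P₀ ⟶ U} {a : P₀ ⟶ E}

section

variable [WeaklyEtale f] (hj : CloExt j) [IsFinite π] [Etale π]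
  (H₀ : IsPullback i u (π ≫ f) j) (hae : a ≫ e = u) (H₁ : IsPullback a (i ≫ π) (e ≫ j) f)

include hj H₀ hae H₁

/-- Two points of `F` over the same point of `X₁`, flat over `X`, agree if their restrictions to `U`
give the same point of `E`. -/
theorem hom_ext_of_comp_a {Y : Scheme.{u}} (g : Y ⟶ X₁) [WeaklyEtale (g ≫ f)] (c d : Y ⟶ F) (hc : c ≫ π = g)
    (hd : d ≫ π = g)
    (h : ∀ c' d' : pullback (g ≫ f) j ⟶ P₀, c' ≫ i = pullback.fst _ _ ≫ c → c' ≫ u = pullback.snd _ _ →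
      d' ≫ i = pullback.fst _ _ ≫ d → d' ≫ u = pullback.snd _ _ → c' ≫ a = d' ≫ a) : c = d := by
  have w : ∀ k : Y ⟶ F, k ≫ π = g →
      (pullback.fst (g ≫ f) j ≫ k) ≫ π ≫ f = pullback.snd (g ≫ f) j ≫ j := fun k hk => by
    rw [Category.assoc, reassoc_of% hk, pullback.condition]
  set c' := H₀.lift (pullback.fst (g ≫ f) j ≫ c) (pullback.snd _ _) (w c hc)
  set d' := H₀.lift (pullback.fst (g ≫ f) j ≫ d) (pullback.snd _ _) (w d hd)
  have hc' : c' ≫ i = pullback.fst _ _ ≫ c := H₀.lift_fst _ _ _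
  have hd' : d' ≫ i = pullback.fst _ _ ≫ d := H₀.lift_fst _ _ _
  have hcd : c' = d' := H₁.hom_ext (h c' d' hc' (H₀.lift_snd _ _ _) hd' (H₀.lift_snd _ _ _))
    (by rw [← Category.assoc, hc', ← Category.assoc, hd', Category.assoc, Category.assoc, hc, hd])
  obtain ⟨ψ, -, hψ⟩ := existsUnique_comp_cloExt hj (g ≫ f) g π
    (pullback.fst (g ≫ f) j ≫ c) (by rw [Category.assoc, hc])
  exact (hψ c ⟨hc, rfl⟩).trans (hψ d ⟨hd, by rw [← hd', ← hcd, hc']⟩).symm

/-- The gluing morphism `F ×_X X₁ ⟶ F`. -/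
theorem exists_gluing : ∃ σ : pullback (π ≫ f) f ⟶ F, σ ≫ π = pullback.snd _ _ ∧
    ∀ ⦃T : Scheme.{u}⦄ (t : T ⟶ pullback (π ≫ f) f) (v₀ v₁ : T ⟶ P₀), v₀ ≫ i = t ≫ pullback.fst _ _ →
      v₁ ≫ i = t ≫ σ → v₁ ≫ u = v₀ ≫ u → v₁ ≫ a = v₀ ≫ a := by
  set q₀ := pullback.fst (π ≫ f) f
  set q₁ := pullback.snd (π ≫ f) f
  have hq : q₀ ≫ π ≫ f = q₁ ≫ f := pullback.condition
  set ι := pullback.fst (q₀ ≫ π ≫ f) j
  set uQ := pullback.snd (q₀ ≫ π ≫ f) j
  have hιu : ι ≫ q₀ ≫ π ≫ f = uQ ≫ j := pullback.condition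
  let t₀ := H₀.lift (ι ≫ q₀) uQ (by rw [Category.assoc]; exact hιu)
  have ht₀i : t₀ ≫ i = ι ≫ q₀ := H₀.lift_fst _ _ _
  have ht₀u : t₀ ≫ u = uQ := H₀.lift_snd _ _ _
  let t₁ := H₁.lift (t₀ ≫ a) (ι ≫ q₁) (by
    rw [Category.assoc, reassoc_of% hae, reassoc_of% ht₀u, Category.assoc, ← hq, hιu])
  have ht₁a : t₁ ≫ a = t₀ ≫ a := H₁.lift_fst _ _ _
  have ht₁π : (t₁ ≫ i) ≫ π = ι ≫ q₁ := by
    rw [Category.assoc]
    exact H₁.lift_snd _ _ _
  obtain ⟨σ, ⟨hσπ, hσ⟩, -⟩ := existsUnique_comp_cloExt hj (q₀ ≫ π ≫ f) q₁ π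
    (t₁ ≫ i) ht₁π
  refine ⟨σ, hσπ, fun T t v₀ v₁ h₀ h₁ hu => ?_⟩
  let w : T ⟶ pullback (q₀ ≫ π ≫ f) j := pullback.lift t (v₀ ≫ u)
    (by rw [← reassoc_of% h₀, Category.assoc, H₀.w])
  have hwι : w ≫ ι = t := pullback.lift_fst _ _ _
  have hwu : w ≫ uQ = v₀ ≫ u := pullback.lift_snd _ _ _
  have e₀ : v₀ = w ≫ t₀ := H₀.hom_ext (by rw [Category.assoc, ht₀i, reassoc_of% hwι, h₀])
    (by rw [Category.assoc, ht₀u, hwu])
  have e₁ : v₁ = w ≫ t₁ := H₀.hom_ext (by rw [Category.assoc, ← hσ, reassoc_of% hwι, h₁])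
    (by rw [Category.assoc, show t₁ ≫ u = uQ from by rw [← hae, reassoc_of% ht₁a, hae, ht₀u], hwu, hu])
  rw [e₀, e₁, Category.assoc, Category.assoc, ht₁a]

/-- The descent datum on the extension. -/
theorem exists_datum : ∃ (D : Desc.SchDD f) (_ : D.obj = Over.mk π),
    ∀ ⦃T : Scheme.{u}⦄ (x₀ x₁ : T ⟶ X₁) (h : x₀ ≫ f = x₁ ≫ f) (v : Desc.Lifts D.obj x₀)
      (v₀ v₁ : T ⟶ P₀) (w : D.obj.left ⟶ F), HEq w (𝟙 F) → v₀ ≫ i = v.1 ≫ w →
        v₁ ≫ i = (D.φ x₀ x₁ h v).1 ≫ w → v₁ ≫ u = v₀ ≫ u → v₁ ≫ a = v₀ ≫ a := by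
  obtain ⟨σ, hσπ, hσ⟩ := exists_gluing hj H₀ hae H₁
  set q₀ := pullback.fst (π ≫ f) f with hq₀
  set q₁ := pullback.snd (π ≫ f) f with hq₁
  have hq : q₀ ≫ π ≫ f = q₁ ≫ f := pullback.condition
  let act : ∀ ⦃T : Scheme.{u}⦄ (x₀ x₁ : T ⟶ X₁) (_ : x₀ ≫ f = x₁ ≫ f),
      Desc.Lifts (Over.mk π) x₀ → Desc.Lifts (Over.mk π) x₁ := fun T x₀ x₁ h v =>
    ⟨pullback.lift v.1 x₁ (by rw [← h, ← Category.assoc]; exact congrArg (· ≫ f) v.2) ≫ σ, by
      show (_ ≫ σ) ≫ π = x₁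
      rw [Category.assoc, hσπ]
      exact pullback.lift_snd _ _ _⟩
  -- the gluing morphism is the identity on the diagonal
  let Δ : F ⟶ pullback (π ≫ f) f := pullback.lift (𝟙 F) π (by rw [Category.id_comp])
  have hΔ : Δ ≫ σ = 𝟙 F := by
    refine hom_ext_of_comp_a hj H₀ hae H₁ π _ _
      (by rw [Category.assoc, hσπ]; exact pullback.lift_snd _ _ _) (Category.id_comp _)
      fun c' d' hc hcu hd hdu => ?_
    refine hσ (pullback.fst _ _ ≫ Δ) d' c' ?_ (by rw [hc, Category.assoc]) (hcu.trans hdu.symm)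
    rw [hd, Category.assoc, pullback.lift_fst]
  have self : ∀ ⦃T : Scheme.{u}⦄ (x : T ⟶ X₁) (v : Desc.Lifts (Over.mk π) x), act x x rfl v = v := by
    intro T x v
    apply Subtype.ext
    show pullback.lift v.1 x _ ≫ σ = v.1
    have hv : v.1 ≫ π = x := v.2
    have : pullback.lift v.1 x (by rw [← Category.assoc]; exact congrArg (· ≫ f) v.2) = v.1 ≫ Δ := by
      apply pullback.hom_ext
      · rw [pullback.lift_fst, Category.assoc, pullback.lift_fst]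
        exact (Category.comp_id _).symm
      · rw [pullback.lift_snd, Category.assoc, pullback.lift_snd, hv]
    exact (congrArg (· ≫ σ) this).trans
      ((Category.assoc _ _ _).trans ((congrArg (v.1 ≫ ·) hΔ).trans (Category.comp_id _)))
  -- the cocycle condition
  set r := pullback.fst (q₀ ≫ π ≫ f) f with hr
  set y₂ := pullback.snd (q₀ ≫ π ≫ f) f with hy₂
  have hry : r ≫ q₀ ≫ π ≫ f = y₂ ≫ f := pullback.condition
  let m₀₂ : pullback (q₀ ≫ π ≫ f) f ⟶ pullback (π ≫ f) f :=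
    pullback.lift (r ≫ q₀) y₂ (by rw [Category.assoc, hry])
  let m₁₂ : pullback (q₀ ≫ π ≫ f) f ⟶ pullback (π ≫ f) f :=
    pullback.lift (r ≫ σ) y₂ (by rw [Category.assoc, reassoc_of% hσπ, ← hq, hry])
  haveI : WeaklyEtale (y₂ ≫ f) := inferInstance
  have hm : m₁₂ ≫ σ = m₀₂ ≫ σ := by
    refine hom_ext_of_comp_a hj H₀ hae H₁ y₂ _ _
      (by rw [Category.assoc, hσπ]; exact pullback.lift_snd _ _ _)
      (by rw [Category.assoc, hσπ]; exact pullback.lift_snd _ _ _)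
      fun c' d' hc hcu hd hdu => ?_
    set ιY := pullback.fst (y₂ ≫ f) j
    set uY := pullback.snd (y₂ ≫ f) j
    have hY : ιY ≫ y₂ ≫ f = uY ≫ j := pullback.condition
    let zY := H₀.lift (ιY ≫ r ≫ q₀) uY (by rw [Category.assoc, Category.assoc, hry, hY])
    let mY := H₀.lift (ιY ≫ r ≫ σ) uY
      (by rw [Category.assoc, Category.assoc, reassoc_of% hσπ, ← hq, hry, hY])
    have hzi : zY ≫ i = ιY ≫ r ≫ q₀ := H₀.lift_fst _ _ _
    have hmi : mY ≫ i = ιY ≫ r ≫ σ := H₀.lift_fst _ _ _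
    have hzu : zY ≫ u = uY := H₀.lift_snd _ _ _
    have hmu : mY ≫ u = uY := H₀.lift_snd _ _ _
    have h₁ : mY ≫ a = zY ≫ a := hσ (ιY ≫ r) zY mY (by rw [hzi, Category.assoc])
      (by rw [hmi, Category.assoc]) (hmu.trans hzu.symm)
    have h₂ : c' ≫ a = mY ≫ a := hσ (ιY ≫ m₁₂) mY c'
      (by rw [hmi, Category.assoc, pullback.lift_fst]) (by rw [hc, Category.assoc]) (hcu.trans hmu.symm)
    have h₃ : d' ≫ a = zY ≫ a := hσ (ιY ≫ m₀₂) zY d'
      (by rw [hzi, Category.assoc, pullback.lift_fst]) (by rw [hd, Category.assoc]) (hdu.trans hzu.symm)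
    rw [h₂, h₁, h₃]
  have comp : ∀ ⦃T : Scheme.{u}⦄ (x₀ x₁ x₂ : T ⟶ X₁) (h₀₁ : x₀ ≫ f = x₁ ≫ f) (h₁₂ : x₁ ≫ f = x₂ ≫ f)
      (v : Desc.Lifts (Over.mk π) x₀),
      act x₁ x₂ h₁₂ (act x₀ x₁ h₀₁ v) = act x₀ x₂ (h₀₁.trans h₁₂) v := by
    intro T x₀ x₁ x₂ h₀₁ h₁₂ v
    apply Subtype.ext
    show pullback.lift (pullback.lift v.1 x₁ _ ≫ σ) x₂ _ ≫ σ = pullback.lift v.1 x₂ _ ≫ σ
    have hv : v.1 ≫ π = x₀ := v.2
    let l : T ⟶ pullback (π ≫ f) f := pullback.lift v.1 x₁ (by rw [reassoc_of% hv, h₀₁])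
    let w : T ⟶ pullback (q₀ ≫ π ≫ f) f := pullback.lift l x₂ (by
      rw [← Category.assoc, pullback.lift_fst, reassoc_of% hv, h₀₁, h₁₂])
    have e₁ : w ≫ m₁₂ = pullback.lift (l ≫ σ) x₂
        (by rw [Category.assoc, reassoc_of% hσπ, ← Category.assoc, pullback.lift_snd, h₁₂]) := by
      apply pullback.hom_ext
      · rw [Category.assoc, pullback.lift_fst, pullback.lift_fst, ← Category.assoc, pullback.lift_fst]
      · rw [Category.assoc, pullback.lift_snd, pullback.lift_snd, pullback.lift_snd]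
    have e₂ : w ≫ m₀₂ = pullback.lift v.1 x₂ (by rw [reassoc_of% hv, h₀₁, h₁₂]) := by
      apply pullback.hom_ext
      · rw [Category.assoc, pullback.lift_fst, pullback.lift_fst, ← Category.assoc, pullback.lift_fst,
          pullback.lift_fst]
      · rw [Category.assoc, pullback.lift_snd, pullback.lift_snd, pullback.lift_snd]
    rw [← e₁, ← e₂, Category.assoc, Category.assoc, hm]
  refine ⟨{
    obj := Over.mk π
    φ := fun T x₀ x₁ h =>
      { toFun := act x₀ x₁ h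
        invFun := act x₁ x₀ h.symm
        left_inv := fun v => (comp x₀ x₁ x₀ h h.symm v).trans (self x₀ v)
        right_inv := fun v => (comp x₁ x₀ x₁ h.symm h v).trans (self x₁ v) }
    φ_natural := fun T T' g x₀ x₁ h h' v v' hv' => ?_
    φ_self := fun T x v => self x v
    φ_comp := fun T x₀ x₁ x₂ h₀₁ h₁₂ v => comp x₀ x₁ x₂ h₀₁ h₁₂ v }, rfl, ?_⟩
  · show pullback.lift v'.1 (g ≫ x₁) _ ≫ σ = g ≫ pullback.lift v.1 x₁ _ ≫ σ
    refine Eq.trans (congrArg (· ≫ σ) ?_) (Category.assoc _ _ _)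
    apply pullback.hom_ext
    · rw [pullback.lift_fst, Category.assoc, pullback.lift_fst, hv']
    · rw [pullback.lift_snd, Category.assoc, pullback.lift_snd]
  · intro T x₀ x₁ h v v₀ v₁ w hw h₀ h₁ hu
    obtain rfl : w = 𝟙 F := eq_of_heq hw
    simp only [Category.comp_id] at h₀ h₁
    exact hσ _ v₀ v₁ (h₀.trans (pullback.lift_fst _ _ _).symm) h₁ hu

variable [Surjective f] [QuasiCompact f]

/-- The extension descends. -/
theorem exists_extension : ∃ (G : Scheme.{u}) (γ : G ⟶ X), IsFinite γ ∧ Etale γ ∧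
    ∃ θ : pullback γ j ≅ E, θ.hom ≫ e = pullback.snd γ j := by
  obtain ⟨D, hD, hspec⟩ := exists_datum hj H₀ hae H₁
  obtain ⟨obj, φ, n₁, n₂, n₃⟩ := D
  obtain rfl : obj = Over.mk π := hD
  haveI : IsAffineHom (Over.mk π).hom := inferInstanceAs (IsAffineHom π)
  obtain ⟨G, ⟨m⟩⟩ := SchDescent.effective_of_isAffineHom (p := f) (⟨Over.mk π, φ, n₁, n₂, n₃⟩ : Desc.SchDD f)
  let γ := G.hom
  let mh : pullback f γ ⟶ F := m.hom.hom.left
  have hmπ : mh ≫ π = pullback.fst f γ := Over.w m.hom.hom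
  haveI : IsIso m.hom.hom := ⟨m.inv.hom, congrArg (fun k ↦ Desc.SchDD.Hom.hom k) m.hom_inv_id,
    congrArg (fun k ↦ Desc.SchDD.Hom.hom k) m.inv_hom_id⟩
  haveI : IsIso mh := inferInstanceAs (IsIso ((Over.forget X₁).map m.hom.hom))
  have hfin : IsFinite (pullback.fst f γ) := by rw [← hmπ]; infer_instance
  have het : Etale (pullback.fst f γ) := by rw [← hmπ]; infer_instance
  have hQ : (@Surjective ⊓ @Flat ⊓ @QuasiCompact : MorphismProperty Scheme.{u}) f :=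
    ⟨⟨inferInstance, inferInstance⟩, inferInstance⟩
  refine ⟨G.left, γ, MorphismProperty.of_pullback_fst_of_descendsAlong hQ hfin,
    MorphismProperty.of_pullback_fst_of_descendsAlong hQ het, ?_⟩
  set g₀ := pullback.fst γ j
  set gu := pullback.snd γ j
  have hg : g₀ ≫ γ = gu ≫ j := pullback.condition
  -- the cover of `G ×_X U`
  set p₁ := pullback.fst f (g₀ ≫ γ)
  set s := pullback.snd f (g₀ ≫ γ)
  have hps : p₁ ≫ f = s ≫ g₀ ≫ γ := pullback.condition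
  let z : pullback f (g₀ ≫ γ) ⟶ pullback f γ := pullback.lift p₁ (s ≫ g₀) (by rw [Category.assoc, hps])
  have hvπ : (z ≫ mh) ≫ π = p₁ := by rw [Category.assoc, hmπ]; exact pullback.lift_fst _ _ _
  let vP := H₀.lift (z ≫ mh) (s ≫ gu) (by rw [← Category.assoc (z ≫ mh), hvπ, Category.assoc, ← hg, hps])
  have hvi : vP ≫ i = z ≫ mh := H₀.lift_fst _ _ _
  have hvu : vP ≫ u = s ≫ gu := H₀.lift_snd _ _ _
  have key : ∀ {Z : Scheme.{u}} (l₁ l₂ : Z ⟶ pullback f (g₀ ≫ γ)), l₁ ≫ s = l₂ ≫ s →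
      l₁ ≫ vP ≫ a = l₂ ≫ vP ≫ a := by
    intro Z l₁ l₂ hl
    have hx : (l₁ ≫ p₁) ≫ f = (l₂ ≫ p₁) ≫ f := by
      simp only [Category.assoc, hps, reassoc_of% hl]
    let cz : Desc.Lifts ((Desc.toDD f).obj G).obj (l₁ ≫ p₁) :=
      ⟨l₁ ≫ z, by show (l₁ ≫ z) ≫ pullback.fst f γ = _; rw [Category.assoc, pullback.lift_fst]⟩
    let vv : Desc.Lifts (Over.mk π) (l₁ ≫ p₁) :=
      ⟨(l₁ ≫ z) ≫ mh, by show ((l₁ ≫ z) ≫ mh) ≫ π = _; rw [Category.assoc, hmπ]; exact cz.2⟩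
    have hcomm : (φ (l₁ ≫ p₁) (l₂ ≫ p₁) hx vv).1 =
        (((Desc.toDD f).obj G).φ (l₁ ≫ p₁) (l₂ ≫ p₁) hx cz).1 ≫ mh := m.hom.comm _ _ hx cz vv rfl
    have hcan : (((Desc.toDD f).obj G).φ (l₁ ≫ p₁) (l₂ ≫ p₁) hx cz).1 = l₂ ≫ z := by
      show (Desc.canMap f G _ _ hx cz).1 = _
      apply pullback.hom_ext
      · rw [Category.assoc, pullback.lift_fst]
        exact (Desc.canMap f G _ _ hx cz).2
      · rw [Category.assoc, pullback.lift_snd, Desc.canMap_val, pullback.lift_snd]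
        show (l₁ ≫ z) ≫ pullback.snd f γ = l₂ ≫ s ≫ g₀
        rw [Category.assoc, pullback.lift_snd, reassoc_of% hl]
    refine ((Category.assoc _ _ _).symm.trans ?_).trans (Category.assoc _ _ _)
    refine (hspec _ _ hx vv (l₁ ≫ vP) (l₂ ≫ vP) (𝟙 F) HEq.rfl ?_ ?_ ?_).symm
    · show (l₁ ≫ vP) ≫ i = ((l₁ ≫ z) ≫ mh) ≫ 𝟙 F
      rw [Category.comp_id, Category.assoc, hvi, Category.assoc]
    · refine Eq.trans ?_ (Category.comp_id (φ (l₁ ≫ p₁) (l₂ ≫ p₁) hx vv).1).symm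
      rw [hcomm, hcan, Category.assoc, hvi]
      exact (Category.assoc _ _ _).symm
    · rw [Category.assoc, hvu, Category.assoc, hvu, reassoc_of% hl]
  let θ : pullback γ j ⟶ E := EffectiveEpi.desc s (vP ≫ a) fun l₁ l₂ h => key l₁ l₂ h
  have hsθ : s ≫ θ = vP ≫ a := EffectiveEpi.fac _ _ _
  have hθe : θ ≫ e = gu := by
    rw [← cancel_epi s, reassoc_of% hsθ, hae, hvu]
  -- `vP` is an isomorphism
  have sq₁ : IsPullback z s (pullback.snd f γ) g₀ := by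
    refine IsPullback.of_right (h₁₂ := pullback.fst f γ) (h₂₂ := γ) (v₁₃ := f) ?_
      (pullback.lift_snd _ _ _) (IsPullback.of_hasPullback f γ)
    rw [pullback.lift_fst]
    exact IsPullback.of_hasPullback f (g₀ ≫ γ)
  have sq₂ : IsPullback (z ≫ mh) (s ≫ gu) (π ≫ f) j := by
    have h1 : IsPullback (z ≫ mh) s (inv mh ≫ pullback.snd f γ) g₀ :=
      sq₁.of_iso (Iso.refl _) (asIso mh) (Iso.refl _) (Iso.refl _) (by simp) (by simp) (by simp) (by simp)
    have h2 := h1.paste_vert (IsPullback.of_hasPullback γ j)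
    convert h2 using 1
    rw [Category.assoc, IsIso.eq_inv_comp, ← Category.assoc, hmπ, pullback.condition]
  haveI : IsIso vP := by
    have : vP = (sq₂.isoIsPullback _ _ H₀).hom := H₀.hom_ext (by simp [hvi]) (by simp [hvu])
    rw [this]
    infer_instance
  -- and it is the base change of `θ` along `a`
  have sq₃ : IsPullback vP s a θ := by
    refine IsPullback.of_right (h₁₂ := i ≫ π) (h₂₂ := e ≫ j) (v₁₃ := f) ?_ hsθ.symm H₁.flip
    rw [← Category.assoc vP, hvi, Category.assoc, hmπ, pullback.lift_fst, reassoc_of% hθe, ← hg]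
    exact IsPullback.of_hasPullback f (g₀ ≫ γ)
  have ha : (@Surjective ⊓ @Flat ⊓ @QuasiCompact : MorphismProperty Scheme.{u}) a :=
    MorphismProperty.of_isPullback H₁.flip hQ
  haveI : IsIso θ :=
    MorphismProperty.of_isPullback_of_descendsAlong (P := MorphismProperty.isomorphisms Scheme.{u})
      sq₃ ha (inferInstanceAs (IsIso vP))
  exact ⟨asIso θ, hθe⟩

end

end Groth.Agent.ShSplit
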