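import Groth.Agent.ShSplit.Clopen
import Groth.Agent.ShSplit.Descent
import Groth.Agent.AlgSpLib.FiniteCofan
import Groth.Agent.WeakEt.StrictHens
import Groth.Agent.WeakEt.Scheme
import Groth.Prelude.Def_Pi1

/-!
# Covers of the punctured spectrum split over the strict henselization extend
-/

set_option autoImplicit false
set_option backward.isDefEq.respectTransparency false

universe u

open CategoryTheory CategoryTheory.Limits AlgebraicGeometry IsLocalRing

namespace Groth.Agent.ShSplit

theorem exists_isPullback_sigma {T T' : Scheme.{u}} (g : T' ⟶ T) (ι : Type u) [Finite ι] :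
    ∃ q : (∐ fun _ : ι => T') ⟶ ∐ fun _ : ι => T,
      IsPullback q (Sigma.desc fun _ => 𝟙 T') (Sigma.desc fun _ : ι => 𝟙 T) g := by
  set π := Sigma.desc fun _ : ι => 𝟙 T
  let w : ι → (T' ⟶ pullback π g) := fun i => pullback.lift (g ≫ Sigma.ι (fun _ : ι => T) i) (𝟙 T')
    (by simp [π])
  have sq : ∀ i, IsPullback (w i) g (pullback.fst π g)
      ((Cofan.mk (∐ fun _ : ι => T) (Sigma.ι fun _ : ι => T)).inj i) := by
    intro i
    refine IsPullback.of_right (h₁₂ := pullback.snd π g) (h₂₂ := π) (v₁₃ := g) ?_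
      (pullback.lift_fst _ _ _) (IsPullback.of_hasPullback π g).flip
    rw [pullback.lift_snd, show (Cofan.mk (∐ fun _ : ι => T) (Sigma.ι fun _ : ι => T)).inj i ≫ π = 𝟙 T from
      Sigma.ι_desc _ _]
    exact IsPullback.of_horiz_isIso ⟨by simp⟩
  obtain ⟨hP⟩ := AlgSpLib.nonempty_isColimit_pullback_cofan _ (coproductIsCoproduct fun _ : ι => T)
    (pullback.fst π g) w (fun _ => g) sq
  let e := (coproductIsCoproduct fun _ : ι => T').coconePointUniqueUpToIso hP
  have he : ∀ i, Sigma.ι (fun _ : ι => T') i ≫ e.hom = w i := fun i =>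
    IsColimit.comp_coconePointUniqueUpToIso_hom (coproductIsCoproduct fun _ : ι => T') hP ⟨i⟩
  have h2 : e.hom ≫ pullback.snd π g = Limits.Sigma.desc fun _ : ι => 𝟙 T' := Sigma.hom_ext _ _ fun i => by
    rw [← Category.assoc, he, Sigma.ι_desc, pullback.lift_snd]
  exact ⟨e.hom ≫ pullback.fst π g, (IsPullback.of_hasPullback π g).of_iso e.symm (Iso.refl _) (Iso.refl _)
    (Iso.refl _) (by simp) (by simp [← h2]) (by simp) (by simp)⟩

theorem exists_extension_punctured {A : Type u} [CommRing A] [IsLocalRing A]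
    (R : Type u) [CommRing R] [IsLocalRing R] [Algebra A R] [IsLocalHom (algebraMap A R)]
    [_root_.Hensel.IsStrictHenselization A R] [CompactSpace (FEt.puncturedSpec A : Scheme.{u})]
    (hc : ConnectedSpace ↑(pullback (FEt.puncturedSpec A).ι (Spec.map (CommRingCat.ofHom (algebraMap A R)))))
    (V : FEt.Cat (FEt.puncturedSpec A : Scheme.{u}))
    (hV : Pi1.IsSplit ((FEt.restrict (pullback.fst (FEt.puncturedSpec A).ι
      (Spec.map (CommRingCat.ofHom (algebraMap A R))))).obj V)) :
    ∃ Y : FEt.Cat (Spec (CommRingCat.of A)), Nonempty ((FEt.restrict (FEt.puncturedSpec A).ι).obj Y ≅ V) := by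
  let f := Spec.map (CommRingCat.ofHom (algebraMap A R))
  let j := (FEt.puncturedSpec A).ι
  let p₁ := pullback.fst j f
  let p₂ := pullback.snd j f
  haveI : WeaklyEtale f := (WeakEt.specMap_iff (CommRingCat.ofHom (algebraMap A R))).2 (by
    have h := WeakEt.weaklyEtale_strictHenselization A R
    rwa [show (CommRingCat.ofHom (algebraMap A R)).hom.toAlgebra = ‹Algebra A R› from Algebra.algebra_ext _ _ fun _ => rfl])
  haveI : Surjective f := ⟨by
    haveI := Hensel.strictHenselization_faithfullyFlat A R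
    exact PrimeSpectrum.comap_surjective_of_faithfullyFlat⟩
  have hj : CloExt j := fun Z h _ C hC => existsUnique_clopen_weaklyEtale R hc h hC
  obtain ⟨ι, hι, es, hes⟩ := hV
  let es' : pullback V.hom p₁ ≅ ∐ fun _ : ι => pullback j f := es
  have hes' : es'.hom ≫ Sigma.desc (fun _ => 𝟙 (pullback j f)) = pullback.snd V.hom p₁ := by
    rw [← Iso.eq_inv_comp]
    exact Sigma.hom_ext _ _ fun k => ((Sigma.ι_desc _ _).trans (hes k).symm)
  obtain ⟨q, hq⟩ := exists_isPullback_sigma p₂ ι
  set π := Sigma.desc fun _ : ι => 𝟙 (Spec (CommRingCat.of R))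
  haveI : IsFinite π := AlgSpLib.isFinite_sigmaDesc_of_isAffine _ fun _ => inferInstance
  haveI : Etale π := IsZariskiLocalAtSource.sigmaDesc fun _ => inferInstance
  have hq' : IsPullback (es'.hom ≫ q) (pullback.snd V.hom p₁) π p₂ :=
    hq.of_iso es'.symm (Iso.refl _) (Iso.refl _) (Iso.refl _) (by simp) (by simp [← hes']) (by simp) (by simp)
  have H₀ : IsPullback (es'.hom ≫ q) (pullback.snd V.hom p₁ ≫ p₁) (π ≫ f) j :=
    hq'.paste_vert (IsPullback.of_hasPullback j f).flip
  have H₁ : IsPullback (pullback.fst V.hom p₁) ((es'.hom ≫ q) ≫ π) (V.hom ≫ j) f := by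
    rw [hq'.w]
    exact (IsPullback.of_hasPullback V.hom p₁).paste_vert (IsPullback.of_hasPullback j f)
  obtain ⟨G, γ, hfin, het, θ, hθ⟩ := exists_extension hj H₀ pullback.condition H₁
  exact ⟨MorphismProperty.Over.mk ⊤ γ ⟨hfin, het⟩, ⟨MorphismProperty.Over.isoMk θ hθ⟩⟩

end Groth.Agent.ShSplit
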