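import Groth.Agent.ShSplit.Algebra
import Groth.Prelude.Def_FEt
import Groth.Prelude.Def_Pi1

/-!
# Finite étale covers of the generic point split by the strict henselisation extend
-/

set_option autoImplicit false
set_option backward.isDefEq.respectTransparency false

universe u

open CategoryTheory CategoryTheory.Limits AlgebraicGeometry IsLocalRing
open scoped TensorProduct

namespace Groth.Agent.ShSplit

theorem mem_range_isSplit_section {X : Scheme.{u}} {Y : FEt.Cat X} (h : Pi1.IsSplit Y) (y : Y.left) :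
    ∃ s : X ⟶ Y.left, s ≫ Y.hom = 𝟙 X ∧ y ∈ Set.range s := by
  obtain ⟨ι, _, e, he⟩ := h
  obtain ⟨⟨i, x⟩, hx⟩ := (sigmaMk fun _ : ι => X).surjective (e.hom y)
  refine ⟨Sigma.ι (fun _ : ι => X) i ≫ e.inv, by rw [Category.assoc]; exact he i, x, ?_⟩
  have h1 : (Sigma.ι (fun _ : ι => X) i) x = e.hom y := (sigmaMk_mk (fun _ : ι => X) i x).symm.trans hx
  rw [Scheme.Hom.comp_apply, h1, ← Scheme.Hom.comp_apply, e.hom_inv_id]
  rfl

theorem exists_extension {A : Type u} [CommRing A] [IsDomain A] [IsLocalRing A] [IsIntegrallyClosed A]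
    (R : Type u) [CommRing R] [IsLocalRing R] [Algebra A R] [IsLocalHom (algebraMap A R)]
    [_root_.Hensel.IsStrictHenselization A R] (K L : Type u) [Field K] [Field L] [Algebra A K] [IsFractionRing A K]
    [Algebra R L] [IsFractionRing R L] [Algebra K L] [Algebra A L] [IsScalarTower A K L] [IsScalarTower A R L]
    (V : FEt.Cat (Spec (CommRingCat.of K)))
    (hV : Pi1.IsSplit ((FEt.restrict (Spec.map (CommRingCat.ofHom (algebraMap K L)))).obj V)) :
    ∃ Y : FEt.Cat (Spec (CommRingCat.of A)),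
      Nonempty ((FEt.restrict (Spec.map (CommRingCat.ofHom (algebraMap A K)))).obj Y ≅ V) := by
  haveI : IsFinite (V.hom : V.left ⟶ Spec (CommRingCat.of K)) := V.prop.1
  haveI : Etale (V.hom : V.left ⟶ Spec (CommRingCat.of K)) := V.prop.2
  haveI : IsAffine V.left := isAffine_of_isAffineHom (X := V.left) (Y := Spec (CommRingCat.of K)) V.hom
  let E := Γ(V.left, ⊤)
  let ψ := Spec.preimage (V.left.isoSpec.inv ≫ V.hom)
  letI : Algebra K E := ψ.hom.toAlgebra
  let w' := Spec.map (CommRingCat.ofHom (algebraMap K E))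
  have hψ : w' = V.left.isoSpec.inv ≫ V.hom := Spec.map_preimage _
  haveI : Algebra.Etale K E := RingHom.etale_algebraMap.1 ((HasRingHomProperty.Spec_iff (P := @Etale)).1
    (show Etale w' by rw [hψ]; infer_instance))
  letI : Algebra A E := ((algebraMap K E).comp (algebraMap A K)).toAlgebra
  haveI : IsScalarTower A K E := IsScalarTower.of_algebraMap_eq fun _ => rfl
  have sqV : IsPullback (Spec.map (CommRingCat.ofHom (Algebra.TensorProduct.includeRight : E →ₐ[K] L ⊗[K] E).toRingHom)
      ≫ V.left.isoSpec.inv) (Spec.map (CommRingCat.ofHom (algebraMap L (L ⊗[K] E))))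
      V.hom (Spec.map (CommRingCat.ofHom (algebraMap K L))) :=
    (isPullback_SpecMap_of_isPushout _ _ _ _ (CommRingCat.isPushout_tensorProduct K L E)).flip.of_iso
      (Iso.refl _) V.left.isoSpec.symm (Iso.refl _) (Iso.refl _) (by simp) (by rfl) (by simp [w', hψ]) (by simp)
  let e₀ := sqV.isoIsPullback _ _ (IsPullback.of_hasPullback V.hom (Spec.map (CommRingCat.ofHom (algebraMap K L))))
  have hsplit : ∀ p : Ideal (L ⊗[K] E), p.IsPrime → ∃ χ : (L ⊗[K] E) →ₐ[L] L, RingHom.ker χ = p := by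
    intro p hp
    obtain ⟨s, hs, z, hz⟩ := mem_range_isSplit_section hV (e₀.hom (⟨p, hp⟩ : PrimeSpectrum (L ⊗[K] E)))
    have hs' : (s ≫ e₀.inv) ≫ Spec.map (CommRingCat.ofHom (algebraMap L (L ⊗[K] E))) = 𝟙 _ := by
      rw [Category.assoc, IsPullback.isoIsPullback_inv_snd]
      exact hs
    let φ := Spec.preimage (s ≫ e₀.inv)
    have hφ : CommRingCat.ofHom (algebraMap L (L ⊗[K] E)) ≫ φ = 𝟙 _ := Spec.map_injective (by
      rw [Spec.map_comp, Spec.map_preimage, hs', Spec.map_id])
    refine ⟨{ φ.hom with commutes' := fun l => RingHom.congr_fun (congrArg CommRingCat.Hom.hom hφ) l }, ?_⟩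
    have hz' : (s ≫ e₀.inv) z = (⟨p, hp⟩ : PrimeSpectrum (L ⊗[K] E)) := by
      rw [Scheme.Hom.comp_apply, hz]
      exact congrArg (fun g => g (⟨p, hp⟩ : PrimeSpectrum (L ⊗[K] E))) e₀.hom_inv_id
    rw [← Spec.map_preimage (s ≫ e₀.inv)] at hz'
    have h1 : Ideal.comap φ.hom (z : PrimeSpectrum L).asIdeal = p := congrArg PrimeSpectrum.asIdeal hz'
    rw [(z : PrimeSpectrum L).asIdeal.eq_bot_or_top.resolve_right (z : PrimeSpectrum L).2.ne_top] at h1
    exact h1
  obtain ⟨het, hfin⟩ := etale_integralClosure_of_split (A := A) (R := R) K L E hsplit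
  let C := integralClosure A E
  let w := Spec.map (CommRingCat.ofHom (algebraMap A C))
  have hw : FEt.prop w := ⟨(IsFinite.SpecMap_iff _).2 (RingHom.finite_algebraMap.2 hfin),
    (HasRingHomProperty.Spec_iff (P := @Etale)).2 (RingHom.etale_algebraMap.2 het)⟩
  refine ⟨MorphismProperty.Over.mk ⊤ w hw, ⟨?_⟩⟩
  letI : Algebra C E := C.val.toRingHom.toAlgebra
  haveI : IsScalarTower A C E := IsScalarTower.of_algebraMap_eq fun _ => rfl
  haveI : Module.Finite K E := Algebra.FormallyUnramified.finite_of_free K E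
  haveI : IsLocalization (Algebra.algebraMapSubmonoid C (nonZeroDivisors A)) E := by
    haveI : Algebra.IsAlgebraic A K := (IsFractionRing.comap_isAlgebraic_iff (A := A) (K := K) (C := K)).2 inferInstance
    haveI : Algebra.IsAlgebraic A E := Algebra.IsAlgebraic.trans A K E
    refine ⟨⟨?_, fun x => ?_, fun {c c'} h => ⟨1, by rw [Subtype.ext h]⟩⟩⟩
    · rintro ⟨_, a, ha, rfl⟩
      show IsUnit (algebraMap K E (algebraMap A K a))
      exact (IsLocalization.map_units K (⟨a, ha⟩ : nonZeroDivisors A)).map _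
    · obtain ⟨y, hy0, hy⟩ := (Algebra.IsAlgebraic.isAlgebraic (R := A) x).exists_integral_multiple
      exact ⟨⟨⟨_, hy⟩, ⟨algebraMap A C y, y, mem_nonZeroDivisors_of_ne_zero hy0, rfl⟩⟩,
        (mul_comm _ _).trans (Algebra.smul_def y x).symm⟩
  haveI : Algebra.IsPushout A K C E := (Algebra.isPushout_of_isLocalization (nonZeroDivisors A) K C E).symm
  have p₁ : IsPullback (Spec.map (CommRingCat.ofHom (algebraMap C E))) w' w
      (Spec.map (CommRingCat.ofHom (algebraMap A K))) :=
    (isPullback_SpecMap_of_isPushout _ _ _ _ (CommRingCat.isPushout_of_isPushout A K C E)).flip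
  refine MorphismProperty.Over.isoMk ((IsPullback.of_hasPullback _ _).isoIsPullback _ _ p₁ ≪≫ V.left.isoSpec.symm) ?_
  show ((IsPullback.of_hasPullback w _).isoIsPullback _ _ p₁ ≪≫ V.left.isoSpec.symm).hom ≫ V.hom = pullback.snd w _
  rw [Iso.trans_hom, Category.assoc, Iso.symm_hom, ← hψ]
  exact IsPullback.isoIsPullback_hom_snd _ _ _ _

end Groth.Agent.ShSplit
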