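import Groth.Agent.EssSub.Generic
import Mathlib.RingTheory.Smooth.IntegralClosure
import Mathlib.RingTheory.Etale.Descent
import Mathlib.RingTheory.Finiteness.Descent
import Mathlib

/-!
# Étale algebras of the generic point split by the strict henselisation extend
-/

set_option autoImplicit false
set_option backward.isDefEq.respectTransparency false

universe u

open IsLocalRing
open scoped TensorProduct

namespace Groth.Agent.ShSplit

/-- An idempotent of an essentially étale base change is integral data of the base. -/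
theorem mem_range_of_idempotent {A : Type u} [CommRing A] [IsLocalRing A] {D : Type u} [CommRing D] [Algebra A D]
    (hD : EGA4loc.IsEssentiallyEtale A D) (E : Type u) [CommRing E] [Algebra A E] (e : D ⊗[A] E)
    (he : IsIdempotentElem e) :
    e ∈ (Algebra.TensorProduct.map (AlgHom.id A D) (integralClosure A E).val).range := by
  obtain ⟨C₀, _, _, q, _, het, -, ⟨ψ⟩⟩ := hD
  let L := Localization.AtPrime q
  have H₁ : Function.Bijective (TensorProduct.toIntegralClosure A C₀ E) :=
    TensorProduct.toIntegralClosure_bijective_of_smooth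
  have H₂ : Function.Bijective (TensorProduct.toIntegralClosure C₀ L (C₀ ⊗[A] E)) :=
    TensorProduct.toIntegralClosure_bijective_of_isLocalization q.primeCompl
  have H := TensorProduct.toIntegralClosure_bijective_of_tower H₁ H₂
  let e' : L ⊗[A] E := Algebra.TensorProduct.map ψ.toAlgHom (AlgHom.id A E) e
  have he' : IsIdempotentElem e' := he.map _
  have hint : IsIntegral L e' := ⟨Polynomial.X ^ 2 - Polynomial.X,
    Polynomial.monic_X_pow_sub (by simp [Polynomial.degree_X]),
    by rw [Polynomial.eval₂_sub, Polynomial.eval₂_X_pow, Polynomial.eval₂_X, pow_two, he'.eq, sub_self]⟩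
  obtain ⟨z, hz⟩ := H.2 ⟨e', hint⟩
  refine ⟨Algebra.TensorProduct.map ψ.symm.toAlgHom (AlgHom.id A _) z, ?_⟩
  have hz' : Algebra.TensorProduct.map (AlgHom.id A L) (integralClosure A E).val z = e' := congrArg Subtype.val hz
  have hback : Algebra.TensorProduct.map ψ.symm.toAlgHom (AlgHom.id A E) e' = e := by
    show Algebra.TensorProduct.map ψ.symm.toAlgHom (AlgHom.id A E) (Algebra.TensorProduct.map ψ.toAlgHom (AlgHom.id A E) e) = e
    rw [← AlgHom.comp_apply, ← Algebra.TensorProduct.map_comp]
    simp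
  rw [← hback, ← hz']
  show (Algebra.TensorProduct.map (AlgHom.id A D) (integralClosure A E).val)
      (Algebra.TensorProduct.map ψ.symm.toAlgHom (AlgHom.id A _) z) = _
  rw [← AlgHom.comp_apply, ← AlgHom.comp_apply, ← Algebra.TensorProduct.map_comp,
    ← Algebra.TensorProduct.map_comp]
  rfl

variable {A : Type u} [CommRing A] [IsDomain A] [IsLocalRing A] {R : Type u} [CommRing R] [IsLocalRing R]
  [Algebra A R] [IsLocalHom (algebraMap A R)] [hR : _root_.Hensel.IsStrictHenselization A R]

include hR in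
/-- An idempotent over the strict henselisation comes from the integral closure. -/
theorem mem_range_of_idempotent_sh {E : Type u} [CommRing E] [Algebra A E] [Module.Flat A E] (e : R ⊗[A] E)
    (he : IsIdempotentElem e) :
    e ∈ (Algebra.TensorProduct.map (AlgHom.id A R) (integralClosure A E).val).range := by
  classical
  obtain ⟨S, hS⟩ := TensorProduct.exists_finset e
  obtain ⟨D, hD, _, _, hDe⟩ := EssSub.exists_essEt_ge (A := A) (S.image Prod.fst)
  let j : D ⊗[A] E →ₐ[A] R ⊗[A] E := Algebra.TensorProduct.map D.val (AlgHom.id A E)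
  have hj : Function.Injective j :=
    Module.Flat.rTensor_preserves_injective_linearMap (M := E) D.val.toLinearMap Subtype.val_injective
  let e₀ : D ⊗[A] E := ∑ p ∈ S.attach, (⟨p.1.1, hD (Finset.mem_coe.2 (Finset.mem_image_of_mem Prod.fst p.2))⟩ : D) ⊗ₜ p.1.2
  have hje : j e₀ = e := by
    rw [map_sum, hS, ← Finset.sum_attach S]
    rfl
  have he₀ : IsIdempotentElem e₀ := hj (by rw [map_mul, hje, he.eq])
  obtain ⟨z, hz⟩ := mem_range_of_idempotent hDe E e₀ he₀
  refine ⟨Algebra.TensorProduct.map D.val (AlgHom.id A _) z, ?_⟩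
  rw [← hje, ← hz]
  show (Algebra.TensorProduct.map (AlgHom.id A R) (integralClosure A E).val)
      (Algebra.TensorProduct.map D.val (AlgHom.id A _) z) =
    j ((Algebra.TensorProduct.map (AlgHom.id A D) (integralClosure A E).val) z)
  rw [← AlgHom.comp_apply, ← AlgHom.comp_apply, ← Algebra.TensorProduct.map_comp,
    ← Algebra.TensorProduct.map_comp]
  rfl

variable [IsIntegrallyClosed A] (K L : Type u) [Field K] [Field L] [Algebra A K] [IsFractionRing A K] [Algebra R L]
  [IsFractionRing R L] [Algebra K L] [Algebra A L] [IsScalarTower A K L] [IsScalarTower A R L]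
  (E : Type u) [CommRing E] [Algebra K E] [Algebra A E] [IsScalarTower A K E]

include hR in
theorem exists_denominator (s : R) (hs : s ≠ 0) : ∃ (c : R) (a : A), a ≠ 0 ∧ c * s = algebraMap A R a := by
  obtain ⟨hd, hic⟩ := (Hensel.strictHenselization_normal_iff (R := A) (S := R)).2 ⟨inferInstance, inferInstance⟩
  haveI := hd
  obtain ⟨D, hD, _, _, hDe⟩ := EssSub.exists_essEt_ge (A := A) ({s} : Finset R)
  haveI := EssSub.isLocalHom_base D
  let b : D := ⟨s, hD (by simp)⟩
  have hmin : (minimalPrimes A).Finite := by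
    have : minimalPrimes A = {⊥} := by
      ext p
      simp only [Set.mem_singleton_iff]
      constructor
      · exact fun hp => le_bot_iff.1 (hp.2 ⟨Ideal.isPrime_bot, le_rfl⟩ bot_le)
      · rintro rfl
        exact ⟨⟨Ideal.isPrime_bot, le_rfl⟩, fun _ _ _ => bot_le⟩
    rw [this]; exact Set.finite_singleton _
  obtain ⟨q, a, ha, h⟩ := EssSub.exists_mul_eq hmin hDe b fun q hq => by
    refine Subtype.ext ?_
    exact (mul_eq_zero.1 (congrArg Subtype.val hq : _)).resolve_right hs
  exact ⟨(Polynomial.aeval b q : D), a, nonZeroDivisors.ne_zero ha, congrArg Subtype.val h⟩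

include hR in
/-- A finite étale algebra of the fraction field split over the strict henselisation has finite étale integral
closure. -/
theorem etale_integralClosure_of_split [Algebra.Etale K E]
    (hsplit : ∀ p : Ideal (L ⊗[K] E), p.IsPrime → ∃ χ : (L ⊗[K] E) →ₐ[L] L, RingHom.ker χ = p) :
    Algebra.Etale A (integralClosure A E) ∧ Module.Finite A (integralClosure A E) := by
  classical
  obtain ⟨hd, hic⟩ := (Hensel.strictHenselization_normal_iff (R := A) (S := R)).2 ⟨inferInstance, inferInstance⟩
  haveI := hd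
  haveI := hic
  haveI := Hensel.strictHenselization_faithfullyFlat A R
  haveI : Module.Finite K E := Algebra.FormallyUnramified.finite_of_free K E
  haveI : Algebra.IsAlgebraic A K := (IsFractionRing.comap_isAlgebraic_iff (A := A) (K := K) (C := K)).2 inferInstance
  haveI : Module.Flat A K := IsLocalization.flat K (nonZeroDivisors A)
  haveI : Module.Flat A E := Module.Flat.trans A K E
  haveI : Algebra.Etale L (L ⊗[K] E) := inferInstance
  haveI : IsReduced (L ⊗[K] E) := Algebra.FormallyUnramified.isReduced_of_field L (L ⊗[K] E)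
  haveI : Finite (E →ₐ[K] L) := inferInstance
  haveI := Fintype.ofFinite (E →ₐ[K] L)
  let C := integralClosure A E
  have hsep : ∀ z : L ⊗[K] E, (∀ χ : E →ₐ[K] L,
      Algebra.TensorProduct.lift (Algebra.ofId L L) χ (fun _ _ => Commute.all _ _) z = 0) → z = 0 := by
    intro z hz
    refine IsNilpotent.eq_zero (nilpotent_iff_mem_prime.2 fun p hp => ?_)
    obtain ⟨χ, rfl⟩ := hsplit p hp
    have hχ : χ = Algebra.TensorProduct.lift (Algebra.ofId L L)
        ((χ.restrictScalars K).comp Algebra.TensorProduct.includeRight) (fun _ _ => Commute.all _ _) := by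
      ext x; simp
    show χ z = 0
    rw [hχ]; exact hz _
  haveI : TensorProduct.CompatibleSMul A K L E :=
    IsLocalization.tensorProduct_compatibleSMul (nonZeroDivisors A) K L E
  let ι : R ⊗[A] E →ₐ[A] L ⊗[A] E := Algebra.TensorProduct.map (IsScalarTower.toAlgHom A R L) (AlgHom.id A E)
  have hι : Function.Injective ι :=
    Module.Flat.rTensor_preserves_injective_linearMap (M := E) (IsScalarTower.toAlgHom A R L).toLinearMap
      (IsFractionRing.injective R L)
  let θ : L ⊗[K] E ≃ₐ[L] L ⊗[A] E := Algebra.TensorProduct.equivOfCompatibleSMul A K L L E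
  let ev : (E →ₐ[K] L) → (R ⊗[A] E →ₐ[R] L) := fun χ =>
    Algebra.TensorProduct.lift (Algebra.ofId R L) (χ.restrictScalars A) (fun _ _ => Commute.all _ _)
  have hev : ∀ χ z, ev χ z =
      Algebra.TensorProduct.lift (Algebra.ofId L L) χ (fun _ _ => Commute.all _ _) (θ.symm (ι z)) := by
    intro χ z
    induction z using TensorProduct.induction_on with
    | zero => simp
    | tmul r x =>
      have h1 : θ.symm (ι (r ⊗ₜ[A] x)) = algebraMap R L r ⊗ₜ[K] x := θ.injective (by
        rw [AlgEquiv.apply_symm_apply]; rfl)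
      rw [h1]
      simp [ev, Algebra.ofId_apply]
    | add y w hy hw => simp only [map_add, hy, hw]
  have hzero : ∀ z : R ⊗[A] E, (∀ χ, ev χ z = 0) → z = 0 := fun z hz =>
    hι ((θ.symm.injective ((hsep (θ.symm (ι z)) fun χ => (hev χ z).symm.trans (hz χ)).trans (map_zero _).symm)).trans
      (map_zero ι).symm)
  have hden : ∀ x : E, ∃ (c : C) (a : A), a ≠ 0 ∧ algebraMap A E a * x = c := fun x => by
    haveI : Algebra.IsAlgebraic A E := Algebra.IsAlgebraic.trans A K E
    obtain ⟨y, hy0, hy⟩ := (Algebra.IsAlgebraic.isAlgebraic (R := A) x).exists_integral_multiple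
    exact ⟨⟨_, hy⟩, y, hy0, (Algebra.smul_def y x).symm⟩
  have hval : ∀ (χ : E →ₐ[K] L) (c : C), ∃ r : R, algebraMap R L r = χ c := fun χ c =>
    IsIntegrallyClosed.isIntegral_iff.1 (((c.2 : IsIntegral A (c : E)).map (χ.restrictScalars A)).tower_top)
  have hidem : ∀ χ₀ : E →ₐ[K] L, ∃ u : R ⊗[A] E, ∀ χ, ev χ u = if χ = χ₀ then 1 else 0 := by
    intro χ₀
    have hne : ∀ χ, χ ≠ χ₀ → ∃ c : C, χ c ≠ χ₀ c := fun χ hχ => by
      obtain ⟨x, hx⟩ := DFunLike.ne_iff.1 hχ
      obtain ⟨c, a, ha, hc⟩ := hden x
      refine ⟨c, fun h => hx ?_⟩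
      rw [← hc, map_mul, map_mul, IsScalarTower.algebraMap_apply A K E, AlgHom.commutes, AlgHom.commutes] at h
      exact mul_left_cancel₀ (fun h0 => ha (IsFractionRing.injective A K
        (((map_eq_zero _).1 h0).trans (map_zero _).symm))) h
    choose! c hc using hne
    choose rv hrv using fun χ => hval χ (c χ)
    let u₀ : R ⊗[A] E := ∏ χ ∈ Finset.univ.erase χ₀, ((1 : R) ⊗ₜ[A] (c χ : E) - rv χ ⊗ₜ[A] (1 : E))
    have hu₀ : ∀ χ, ev χ u₀ = ∏ χ' ∈ Finset.univ.erase χ₀, (χ (c χ') - χ' (c χ')) := fun χ => by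
      simp [u₀, ev, Algebra.ofId_apply, hrv]
    choose ρ hρ using fun χ' => hval χ₀ (c χ')
    set s := ∏ χ' ∈ Finset.univ.erase χ₀, (ρ χ' - rv χ')
    have hs : algebraMap R L s = ev χ₀ u₀ := by
      rw [hu₀, map_prod]
      exact Finset.prod_congr rfl fun χ' _ => by rw [map_sub, hρ, hrv]
    have hs0 : s ≠ 0 := fun h => by
      rw [h, map_zero, hu₀, eq_comm, Finset.prod_eq_zero_iff] at hs
      obtain ⟨χ', hχ', h0⟩ := hs
      exact hc χ' (Finset.ne_of_mem_erase hχ') (sub_eq_zero.1 h0).symm
    obtain ⟨c', a, ha, hca⟩ := exists_denominator (A := A) s hs0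
    have haE : algebraMap A K a ≠ 0 := fun h => ha (IsFractionRing.injective A K (h.trans (map_zero _).symm))
    refine ⟨((c' • u₀) * ((1 : R) ⊗ₜ[A] algebraMap K E (algebraMap A K a)⁻¹)), fun χ => ?_⟩
    have hu : ev χ (((c' • u₀) * ((1 : R) ⊗ₜ[A] algebraMap K E (algebraMap A K a)⁻¹))) =
        algebraMap R L c' * ev χ u₀ * algebraMap K L (algebraMap A K a)⁻¹ := by
      rw [map_mul, map_smul, Algebra.smul_def]
      simp [ev]
    rw [hu]
    split_ifs with h
    · subst h
      rw [← hs, ← map_mul, hca, map_inv₀, ← IsScalarTower.algebraMap_apply, ← IsScalarTower.algebraMap_apply]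
      refine mul_inv_cancel₀ fun h0 => haE ((algebraMap K L).injective ?_)
      rw [← IsScalarTower.algebraMap_apply, h0, map_zero]
    · rw [hu₀, Finset.prod_eq_zero (Finset.mem_erase.2 ⟨h, Finset.mem_univ χ⟩) (sub_self _), mul_zero, zero_mul]
  let j : R ⊗[A] C →ₐ[A] R ⊗[A] E := Algebra.TensorProduct.map (AlgHom.id A R) C.val
  have hjinj : Function.Injective j :=
    Module.Flat.lTensor_preserves_injective_linearMap (M := R) C.val.toLinearMap Subtype.val_injective
  let σ : (E →ₐ[K] L) → (C →ₐ[A] R) := fun χ =>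
    (AlgEquiv.ofInjective (IsScalarTower.toAlgHom A R L) (IsFractionRing.injective R L)).symm.toAlgHom.comp
      (((χ.restrictScalars A).comp C.val).codRestrict _ fun c => hval χ c)
  have hσ : ∀ χ c, algebraMap R L (σ χ c) = χ c := fun χ c =>
    congrArg Subtype.val ((AlgEquiv.ofInjective (IsScalarTower.toAlgHom A R L)
      (IsFractionRing.injective R L)).apply_symm_apply
        ((((χ.restrictScalars A).comp C.val).codRestrict _ fun c => hval χ c) c))
  let Φ : R ⊗[A] C →ₐ[R] ((E →ₐ[K] L) → R) := Pi.algHom R _ fun χ =>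
    Algebra.TensorProduct.lift (Algebra.ofId R R) (σ χ) (fun _ _ => Commute.all _ _)
  have hΦ : ∀ z χ, algebraMap R L (Φ z χ) = ev χ (j z) := by
    intro z χ
    induction z using TensorProduct.induction_on with
    | zero => simp
    | tmul r c =>
      have h1 : Φ (r ⊗ₜ[A] c) χ = r * σ χ c := by
        simp [Φ, Algebra.ofId_apply]
      rw [h1, map_mul, hσ]
      simp [ev, j, Algebra.ofId_apply]
    | add y w hy hw =>
      rw [map_add, map_add, map_add, Pi.add_apply, map_add, hy, hw]
  have hbij : Function.Bijective Φ := by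
    refine ⟨(injective_iff_map_eq_zero Φ).2 fun z hz => hjinj (((hzero (j z) fun χ => by
      rw [← hΦ, hz, Pi.zero_apply, map_zero]).trans (map_zero j).symm)), fun v => ?_⟩
    choose u hu using hidem
    have hidemu : ∀ χ₀, IsIdempotentElem (u χ₀) := fun χ₀ => sub_eq_zero.1 (hzero _ fun χ => by
      rw [map_sub, map_mul, hu]; split_ifs <;> simp)
    choose y hy using fun χ₀ => mem_range_of_idempotent_sh (A := A) (u χ₀) (hidemu χ₀)
    refine ⟨∑ χ₀, v χ₀ • y χ₀, funext fun χ => IsFractionRing.injective R L ?_⟩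
    have hy' : ∀ χ₀, j (y χ₀) = u χ₀ := hy
    simp only [map_sum, map_smul, Finset.sum_apply, Pi.smul_apply, smul_eq_mul, map_mul, hΦ, hy', hu]
    simp
  haveI : Algebra.Etale R ((E →ₐ[K] L) → R) := inferInstance
  haveI : Algebra.Etale R (R ⊗[A] C) := Algebra.Etale.of_equiv (AlgEquiv.ofBijective Φ hbij).symm
  haveI : Module.Finite R (R ⊗[A] C) := Module.Finite.equiv (AlgEquiv.ofBijective Φ hbij).symm.toLinearEquiv
  exact ⟨Algebra.Etale.of_etale_tensorProduct_of_faithfullyFlat R,
    Module.Finite.of_finite_tensorProduct_of_faithfullyFlat R⟩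

end Groth.Agent.ShSplit
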