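import Groth.Agent.WeakEt.StrictHensScheme
import Groth.Agent.Hensel.Henselization
import Groth.Agent.Hensel.HenselizationProps
import Groth.Agent.FpqcDescent.Immersion
import Groth.Prelude.Def_FEt

/-!
# Clopen subsets of schemes weakly étale over a local scheme extend from the punctured part
-/

set_option autoImplicit false
set_option backward.isDefEq.respectTransparency false

universe u

open CategoryTheory CategoryTheory.Limits AlgebraicGeometry IsLocalRing

namespace Groth.Agent.ShSplit

theorem exists_hom_range {A : Type u} [CommRing A] [IsLocalRing A]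
    (R : Type u) [CommRing R] [IsLocalRing R] [Algebra A R] [IsLocalHom (algebraMap A R)]
    [_root_.Hensel.IsStrictHenselization A R]
    {Z : Scheme.{u}} (h : Z ⟶ Spec (CommRingCat.of A)) [WeaklyEtale h] (z : Z) (hz : h z = closedPoint A) :
    ∃ s : Spec (CommRingCat.of R) ⟶ Z, s ≫ h = Spec.map (CommRingCat.ofHom (algebraMap A R)) ∧
      Set.range s = {w | w ⤳ z} := by
  let P := (Spec (CommRingCat.of A)).presheaf.stalk (h z)
  let O := Z.presheaf.stalk z
  let t : CommRingCat.of A ⟶ P := StructureSheaf.toStalk A (h z)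
  letI : Algebra A P := t.hom.toAlgebra
  letI : Algebra P O := (h.stalkMap z).hom.toAlgebra
  letI : Algebra A O := (t ≫ h.stalkMap z).hom.toAlgebra
  haveI : IsScalarTower A P O := IsScalarTower.of_algebraMap_eq fun _ => rfl
  haveI : IsLocalHom (algebraMap P O) := inferInstanceAs (IsLocalHom (h.stalkMap z).hom)
  have hbij : Function.Bijective (algebraMap A P) := by
    let q : PrimeSpectrum A := h z
    have h2 : q.asIdeal = maximalIdeal A := congrArg PrimeSpectrum.asIdeal hz
    haveI : IsLocalization.AtPrime P q.asIdeal := StructureSheaf.IsLocalization.to_stalk A q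
    refine (IsLocalization.atUnits A q.asIdeal.primeCompl (S := P) fun x hx => ?_).bijective
    have h3 : x ∉ q.asIdeal := hx
    rw [h2] at h3
    exact notMem_maximalIdeal.1 h3
  haveI : Algebra.Etale A P := Algebra.Etale.of_equiv (AlgEquiv.ofBijective (Algebra.ofId A P) hbij)
  haveI : Algebra.WeaklyEtale P O :=
    ⟨((S1412.result h).1 ‹_› z).1, ((S1412.result h).1 ‹_› z).2⟩
  haveI : Algebra.WeaklyEtale A O := Algebra.WeaklyEtale.trans A P O
  obtain ⟨R', hR1, hR2, hR3, hl, hS⟩ := WeakEt.exists_strict O
  letI : Algebra A R' := ((algebraMap O R').comp (algebraMap A O)).toAlgebra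
  haveI : IsScalarTower A O R' := IsScalarTower.of_algebraMap_eq fun _ => rfl
  haveI : IsLocalHom (algebraMap A P) := ⟨fun a ha => by
    obtain ⟨b, hb⟩ := ha.exists_right_inv
    obtain ⟨c, rfl⟩ := hbij.2 b
    exact .of_mul_eq_one c (hbij.1 (by rw [map_mul, map_one, hb]))⟩
  haveI : IsLocalHom (algebraMap A O) := RingHom.isLocalHom_comp (algebraMap P O) (algebraMap A P)
  haveI : IsLocalHom (algebraMap A R') := RingHom.isLocalHom_comp (algebraMap O R') (algebraMap A O)
  haveI := WeakEt.isStrictHenselization_of_weaklyEtale A O R'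
  obtain ⟨e⟩ := Hensel.strictHenselization_equiv A R
  obtain ⟨e'⟩ := Hensel.strictHenselization_equiv A R'
  let ψ : R' ≃ₐ[A] R := e'.trans e.symm
  let b := Spec.map (CommRingCat.ofHom (algebraMap O R'))
  let a := Spec.map (CommRingCat.ofHom ψ.toAlgHom.toRingHom)
  haveI : IsIso a := by
    haveI : IsIso (CommRingCat.ofHom ψ.toAlgHom.toRingHom) :=
      (ConcreteCategory.isIso_iff_bijective _).2 ψ.bijective
    infer_instance
  refine ⟨a ≫ b ≫ Z.fromSpecStalk z, ?_, ?_⟩
  · rw [Category.assoc, Category.assoc, ← Scheme.SpecMap_stalkMap_fromSpecStalk, Spec.fromSpecStalk_eq',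
      ← Spec.map_comp, ← Spec.map_comp, ← Spec.map_comp]
    exact congrArg Spec.map (CommRingCat.hom_ext (RingHom.ext fun x => ψ.commutes x))
  · have h1 : Function.Surjective b := by
      haveI := Hensel.strictHenselization_faithfullyFlat O R'
      exact PrimeSpectrum.comap_surjective_of_faithfullyFlat
    have h2 : Function.Surjective a := a.homeomorph.surjective
    rw [← Scheme.range_fromSpecStalk]
    show Set.range (Z.fromSpecStalk z ∘ (b ∘ a)) = _
    exact (h1.comp h2).range_comp _

/-- Clopen subsets of the part over the punctured spectrum extend uniquely to a scheme weakly étale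
over the local scheme, if the punctured strict henselization is connected. -/
theorem existsUnique_clopen_weaklyEtale {A : Type u} [CommRing A] [IsLocalRing A]
    (R : Type u) [CommRing R] [IsLocalRing R] [Algebra A R] [IsLocalHom (algebraMap A R)]
    [_root_.Hensel.IsStrictHenselization A R] [CompactSpace (FEt.puncturedSpec A : Scheme.{u})]
    (hc : ConnectedSpace ↑(pullback (FEt.puncturedSpec A).ι (Spec.map (CommRingCat.ofHom (algebraMap A R)))))
    {Z : Scheme.{u}} (h : Z ⟶ Spec (CommRingCat.of A)) [WeaklyEtale h]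
    {C : Set ↥(pullback h (FEt.puncturedSpec A).ι)} (hC : IsClopen C) :
    ∃! W : Set Z, IsClopen W ∧ pullback.fst h (FEt.puncturedSpec A).ι ⁻¹' W = C := by
  let U := FEt.puncturedSpec A
  let p := pullback.fst h U.ι
  have hrange : Set.range p = h ⁻¹' (U : Set (Spec (CommRingCat.of A))) := by
    rw [Scheme.Pullback.range_fst, Scheme.Opens.range_ι]
  haveI : QuasiCompact U.ι := quasiCompact_of_compactSpace U.ι
  haveI : QuasiCompact p := MorphismProperty.pullback_fst (P := @QuasiCompact) _ _ ‹_›
  have hemb := p.isOpenEmbedding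
  obtain ⟨x₀⟩ := hc.toNonempty
  have hout : ∀ z, h z ∉ U → h z = closedPoint A := fun z hz => by
    by_contra hne
    exact hz hne
  -- closures of clopen pieces are specializations
  have hgen : ∀ D : Set ↥(pullback h U.ι), IsClopen D → ∀ z ∈ closure (p '' D), ∃ c ∈ D, p c ⤳ z := by
    intro D hD z hz
    let V : (pullback h U.ι).Opens := ⟨D, hD.2⟩
    haveI : IsClosedImmersion V.ι :=
      IsClosedImmersion.of_isPreimmersion V.ι (by rw [Scheme.Opens.range_ι]; exact hD.1)
    obtain ⟨y, hy⟩ := FpqcDescent.exists_specializes_of_mem_closure (V.ι ≫ p) (x := z) (by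
      have e : Set.range (V.ι ≫ p) = p '' D := by
        rw [Scheme.Hom.comp_base, TopCat.coe_comp, Set.range_comp, Scheme.Opens.range_ι]
        rfl
      rw [e]; exact hz)
    exact ⟨V.ι y, y.2, hy⟩
  -- density
  have hd : DenseRange p := fun z => by
    by_cases hzU : h z ∈ U
    · exact subset_closure (hrange.ge hzU)
    let u₀ := pullback.fst U.ι (Spec.map (CommRingCat.ofHom (algebraMap A R))) x₀
    have hsp : (u₀.1 : Spec (CommRingCat.of A)) ⤳ h z := by
      rw [hout z hzU]
      exact (PrimeSpectrum.le_iff_specializes (R := A) u₀.1 (closedPoint A)).1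
        (le_maximalIdeal (PrimeSpectrum.isPrime _).ne_top)
    obtain ⟨w, hw, hwU⟩ := Flat.generalizingMap h hsp
    exact hw.mem_closed isClosed_closure (subset_closure (hrange.ge (by
      show h w ∈ U
      rw [hwU]; exact u₀.2)))
  let O : Set Z := p '' C
  let O' : Set Z := p '' Cᶜ
  have hcov : closure O ∪ closure O' = Set.univ := by
    rw [← closure_union, ← Set.image_union, Set.union_compl_self, Set.image_univ, hd.closure_range]
  have hdisj : Disjoint (closure O) (closure O') := by
    rw [Set.disjoint_left]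
    intro z hz hz'
    obtain ⟨c, hcC, hcz⟩ := hgen C hC z hz
    obtain ⟨c', hcC', hcz'⟩ := hgen Cᶜ hC.compl z hz'
    by_cases hzU : h z ∈ U
    · obtain ⟨y, rfl⟩ := hrange.ge hzU
      exact hC.compl.1.stableUnderSpecialization (hemb.isInducing.specializes_iff.1 hcz') hcC'
        (hC.1.stableUnderSpecialization (hemb.isInducing.specializes_iff.1 hcz) hcC)
    obtain ⟨s, hs, hsr⟩ := exists_hom_range R h z (hout z hzU)
    let g := pullback.snd U.ι (Spec.map (CommRingCat.ofHom (algebraMap A R))) ≫ s
    have hgr : ∀ y : ↥(pullback h U.ι), p y ⤳ z → p y ∈ Set.range g := by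
      intro y hy
      obtain ⟨r, hr⟩ := hsr.ge hy
      obtain ⟨q, hq⟩ := (Scheme.Pullback.range_snd U.ι (Spec.map (CommRingCat.ofHom (algebraMap A R)))).ge
        (show r ∈ Spec.map (CommRingCat.ofHom (algebraMap A R)) ⁻¹' Set.range U.ι by
          rw [Scheme.Opens.range_ι, Set.mem_preimage, ← hs, Scheme.Hom.comp_apply, hr]
          exact hrange.le ⟨y, rfl⟩)
      exact ⟨q, by rw [Scheme.Hom.comp_apply, hq, hr]⟩
    have hgU : Set.range g ⊆ O ∪ O' := by
      rw [← Set.image_union, Set.union_compl_self, Set.image_univ, hrange]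
      rintro _ ⟨q, rfl⟩
      show h (g q) ∈ U
      rw [← Scheme.Hom.comp_apply, Category.assoc, hs, ← pullback.condition, Scheme.Hom.comp_apply]
      exact Subtype.coe_prop _
    obtain ⟨w, -, hw, hw'⟩ := isPreconnected_range g.continuous O O' (hemb.isOpenMap _ hC.2)
      (hemb.isOpenMap _ hC.compl.2) hgU ⟨p c, hgr c hcz, ⟨c, hcC, rfl⟩⟩
      ⟨p c', hgr c' hcz', ⟨c', hcC', rfl⟩⟩
    obtain ⟨y, hy, rfl⟩ := hw
    obtain ⟨y', hy', e⟩ := hw'
    exact hy' (by rwa [hemb.injective e])
  have hcompl : (closure O)ᶜ = closure O' := Set.Subset.antisymm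
    (fun z hz => (hcov.ge (Set.mem_univ z)).resolve_left hz) (fun z hz h => Set.disjoint_left.1 hdisj h hz)
  have hopen : IsOpen (closure O) := by
    rw [← isClosed_compl_iff, hcompl]
    exact isClosed_closure
  refine ⟨closure O, ⟨⟨isClosed_closure, hopen⟩, ?_⟩, fun W ⟨hW, hWC⟩ => ?_⟩
  · rw [← hemb.isInducing.closure_eq_preimage_closure_image, hC.1.closure_eq]
  · have h1 : W ∩ Set.range p = O := by rw [← Set.image_preimage_eq_inter_range, hWC]
    refine Set.Subset.antisymm ?_ ?_
    · rw [← h1]
      exact hd.open_subset_closure_inter hW.2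
    · exact closure_minimal (h1 ▸ Set.inter_subset_left) hW.1

end Groth.Agent.ShSplit
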